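import Mathlib
import Cfsg.Agent.Lib.Class2.Four
import Cfsg.Agent.Lib.Mathieu.L34
import Cfsg.Agent.Lib.Mit.Basic
import Cfsg.Agent.Lib.Perm.JordanPrime

/-! The elements of `L₃(4)`.  See `plans/D4.md`. -/

set_option autoImplicit false

namespace CfsgLib.D4.L34

open Matrix CfsgLib.Classical CfsgLib.Fusion
open scoped MatrixGroups

variable {G H : Type*} [Group G] [Group H]

def Four (g : G) : Prop := ∃ u v, Commute u (g ^ 2) ∧ Commute v (g ^ 2) ∧ ¬ Commute u g ∧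
  ¬ Commute v g ∧ ¬ Commute (u * v) g

def Five (g : G) : Prop := IsConj g g⁻¹ ∧ ∃ E : Subgroup G, Nat.card E = 16 ∧ (∀ e ∈ E, e ^ 2 = 1) ∧
  ∀ e ∈ E, g * e * g⁻¹ ∈ E

theorem Four.map {f : G →* H} (hf : Function.Injective f) {g : G} : Four g → Four (f g) :=
  fun ⟨u, v, h1, h2, h3, h4, h5⟩ => ⟨f u, f v, map_pow f g 2 ▸ h1.map f, map_pow f g 2 ▸ h2.map f,
    fun h => h3 (h.of_map hf), fun h => h4 (h.of_map hf), fun h => h5 ((map_mul f u v ▸ h).of_map hf)⟩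

theorem Five.map {f : G →* H} (hf : Function.Injective f) {g : G} : Five g → Five (f g) :=
  fun ⟨h, E, h1, h2, h3⟩ => ⟨map_inv f g ▸ f.map_isConj h, E.map f,
    (Subgroup.card_map_of_injective hf).trans h1,
    by rintro _ ⟨e, he, rfl⟩; rw [← map_pow, h2 e he, map_one],
    by rintro _ ⟨e, he, rfl⟩; exact ⟨_, h3 e he, by simp⟩⟩

/-- the facts used -/
structure Facts (G : Type*) [Group G] : Prop where
  pw : ∀ g : G, g ^ 3 = 1 ∨ g ^ 4 = 1 ∨ g ^ 5 = 1 ∨ g ^ 7 = 1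
  four : ∀ g : G, g ^ 4 = 1 → g ^ 2 ≠ 1 → Four g
  five : ∀ g : G, g ^ 5 = 1 → g ≠ 1 → Five g
  seven : ∀ g : G, g ^ 7 = 1 → g ≠ 1 → IsConj g (g ^ 2)

theorem Facts.equiv (h : Facts H) (e : G ≃* H) : Facts G where
  pw g := by simpa only [← map_pow, map_eq_one_iff e e.injective] using h.pw (e g)
  four g h1 h2 := by
    simpa using (h.four (e g) (by rw [← map_pow, h1, map_one]) (by rwa [← map_pow, e.map_ne_one_iff])).map
      (f := e.symm.toMonoidHom) e.symm.injective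
  five g h1 h2 := by
    simpa using (h.five (e g) (by rw [← map_pow, h1, map_one]) (by rwa [e.map_ne_one_iff])).map
      (f := e.symm.toMonoidHom) e.symm.injective
  seven g h1 h2 := by
    simpa using e.symm.toMonoidHom.map_isConj
      (h.seven (e g) (by rw [← map_pow, h1, map_one]) (by rwa [e.map_ne_one_iff]))

/-- coefficients of `M ^ (n + 3)` -/
def co (t s : GF4) : ℕ → GF4 × GF4 × GF4
  | 0 => (t, s, 1)
  | n + 1 => ((co t s n).1 * t + (co t s n).2.1, (co t s n).1 * s + (co t s n).2.2, (co t s n).1)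

theorem pow_co {M : Matrix (Fin 3) (Fin 3) GF4} {t s : GF4} (h : M ^ 3 = t • M ^ 2 + s • M + 1) (n : ℕ) :
    M ^ (n + 3) = (co t s n).1 • M ^ 2 + (co t s n).2.1 • M + (co t s n).2.2 • 1 := by
  induction n with
  | zero => simpa [co] using h
  | succ n ih =>
    rw [add_right_comm, pow_succ, ih, add_mul, add_mul, smul_mul_assoc, smul_mul_assoc, ← pow_succ, h,
      ← pow_two, smul_mul_assoc, one_mul]
    simp only [co]
    module

theorem co_zero : ∀ t s : GF4, ∃ n ∈ [0, 1, 2, 4], (co t s n).1 = 0 ∧ (co t s n).2.1 = 0 := by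
  decide +kernel

abbrev mk : SL(3, GF4) →* PSL(3, GF4) := QuotientGroup.mk' _

theorem mk_eq_one {g : SL(3, GF4)} : mk g = 1 ↔ g ∈ Subgroup.center _ := QuotientGroup.eq_one_iff g

theorem pw (g : PSL(3, GF4)) : g ^ 3 = 1 ∨ g ^ 4 = 1 ∨ g ^ 5 = 1 ∨ g ^ 7 = 1 := by
  obtain ⟨x, rfl⟩ := QuotientGroup.mk'_surjective _ g
  obtain ⟨n, hn, h1, h2⟩ := co_zero x.1.trace (-(adjugate x.1).trace)
  have h := pow_co (t := x.1.trace) (s := -(adjugate x.1).trace) (M := x.1)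
    (by rw [Mit.ch3, x.2, one_smul, neg_smul, sub_eq_add_neg]) n
  rw [h1, h2, zero_smul, zero_smul, zero_add, zero_add] at h
  have : mk x ^ (n + 3) = 1 := by
    rw [← map_pow, mk_eq_one, Subgroup.mem_center_iff]
    intro y
    ext1
    simp [h]
  simp only [List.mem_cons, List.not_mem_nil, or_false] at hn
  rcases hn with rfl | rfl | rfl | rfl
  exacts [.inl this, .inr (.inl this), .inr (.inr (.inl this)), .inr (.inr (.inr this))]

theorem four (g : PSL(3, GF4)) (h4 : g ^ 4 = 1) (h2 : g ^ 2 ≠ 1) : Four g := by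
  have hp : IsPGroup 2 (Subgroup.zpowers g) := by
    rintro ⟨_, i, rfl⟩
    exact ⟨2, Subtype.ext (show (g ^ i) ^ 4 = 1 by rw [← zpow_natCast, zpow_comm, zpow_natCast, h4, _root_.one_zpow])⟩
  obtain ⟨P, hP⟩ := hp.exists_le_sylow
  obtain ⟨φ⟩ := Class2.nonempty_u3_equiv card_GF4 P
  obtain ⟨⟨_, v, rfl⟩, e⟩ := φ.surjective ⟨g, hP (Subgroup.mem_zpowers g)⟩
  let f : U3 GF4 →* PSL(3, GF4) := (P : Subgroup _).subtype.comp φ.toMonoidHom
  have hf : Function.Injective f := Subtype.val_injective.comp φ.injective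
  obtain rfl : f ⟨_, v, rfl⟩ = g := congrArg Subtype.val e
  rw [← map_pow, map_ne_one_iff f hf] at h2
  refine Four.map hf ⟨⟨_, (1, 0, 0), rfl⟩, ⟨_, (⟨0, 1⟩, 0, 0), rfl⟩, ?_⟩
  simp only [ne_eq, commute_iff_eq, Subtype.ext_iff, Subgroup.coe_mul, pow_two, Subgroup.coe_one,
    ← ut3_zero, ut3_mul, ut3_injective.eq_iff] at h2 ⊢
  clear e h4 hp hP
  revert v
  decide +kernel

theorem card_ne {p : ℕ} (h : ¬ p ^ 2 ∣ 20160) : ¬ p ^ 2 ∣ Nat.card PSL(3, GF4) := by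
  rwa [Mathieu.card_psl3_of_card card_GF4]

theorem order_mk {p : ℕ} [Fact p.Prime] {x y : SL(3, GF4)} (h : x ^ p = 1 ∧ y * x ≠ x * y) :
    orderOf (mk x) = p :=
  orderOf_eq_prime (by rw [← map_pow, h.1, map_one]) fun e =>
    h.2 (Subgroup.mem_center_iff.1 (mk_eq_one.1 e) y)

def g5 : SL(3, GF4) := ⟨!![1, 0, 0; 0, 0, 1; 0, 1, ⟨0, 1⟩], by decide +kernel⟩
def k5 : SL(3, GF4) := ⟨!![1, 0, 0; 0, 0, 1; 0, 1, 0], by decide +kernel⟩
def g7 : SL(3, GF4) := ⟨!![0, 0, 1; 1, 0, 1; 0, 1, 0], by decide +kernel⟩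
def k7 : SL(3, GF4) := ⟨!![1, 0, 0; 0, 0, 1; 0, 1, 1], by decide +kernel⟩

/-- the unipotent radical of a point stabiliser -/
def rad : Multiplicative (GF4 × GF4) →* PSL(3, GF4) := mk.comp (MonoidHom.mk'
  (fun v => ut3 (v.toAdd.1, 0, v.toAdd.2)) fun _ _ => by simp [ut3_mul])

theorem rad_inj : Function.Injective rad := (injective_iff_map_eq_one _).2 fun v h => by
  have := Subgroup.mem_center_iff.1 (mk_eq_one.1 h) g5
  simp only [MonoidHom.mk'_apply] at this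
  clear h
  revert v
  decide +kernel

theorem five (g : PSL(3, GF4)) (h5 : g ^ 5 = 1) (h1 : g ≠ 1) : Five g := by
  have : Fact (Nat.Prime 5) := ⟨by norm_num⟩
  obtain ⟨k, hk⟩ := Perm.exists_conj_mem_zpowers_of_not_sq_dvd this.out (card_ne (by norm_num))
    (order_mk (x := g5) (y := k5) (by decide +kernel)) (orderOf_eq_prime h5 h1)
  suffices h : Five (k * g * k⁻¹) by
    simpa [mul_assoc] using h.map (f := (MulAut.conj k⁻¹).toMonoidHom) (MulAut.conj k⁻¹).injective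
  obtain ⟨i, hi⟩ := (mem_powers_iff_mem_zpowers.2 hk :)
  rw [← hi]
  have e : mk k5 * mk g5 * (mk k5)⁻¹ = (mk g5)⁻¹ := by
    rw [← map_inv, ← map_mul, ← map_mul, ← map_inv]
    exact congrArg mk (by rw [mul_inv_eq_iff_eq_mul, eq_inv_mul_iff_mul_eq]; decide +kernel)
  refine ⟨isConj_iff.2 ⟨mk k5, by rw [← conj_pow, e, inv_pow]⟩, rad.range, ?_, ?_, ?_⟩
  · rw [← Nat.card_congr (MonoidHom.ofInjective rad_inj).toEquiv]
    simp [card_GF4]
  · rintro _ ⟨v, rfl⟩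
    rw [← map_pow, show v ^ 2 = 1 by revert v; decide +kernel, map_one]
  · clear hi
    induction i with
    | zero => simp
    | succ i ih =>
      rintro _ ⟨v, rfl⟩
      obtain ⟨w, hw⟩ : ∃ w : Multiplicative (GF4 × GF4), g5 * ut3 (v.toAdd.1, 0, v.toAdd.2) =
          ut3 (w.toAdd.1, 0, w.toAdd.2) * g5 := by revert v; decide +kernel
      have : mk g5 * rad v * (mk g5)⁻¹ = rad w := by
        rw [mul_inv_eq_iff_eq_mul]
        exact (map_mul mk _ _).symm.trans ((congrArg mk hw).trans (map_mul mk _ _))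
      have := ih _ ⟨w, this.symm⟩
      simpa [pow_succ, mul_assoc] using this

theorem seven (g : PSL(3, GF4)) (h7 : g ^ 7 = 1) (h1 : g ≠ 1) : IsConj g (g ^ 2) := by
  have : Fact (Nat.Prime 7) := ⟨by norm_num⟩
  obtain ⟨k, hk⟩ := Perm.exists_conj_mem_zpowers_of_not_sq_dvd this.out (card_ne (by norm_num))
    (order_mk (x := g7) (y := k7) (by decide +kernel)) (orderOf_eq_prime h7 h1)
  obtain ⟨i, hi⟩ := (mem_powers_iff_mem_zpowers.2 hk :)
  have e : mk k7 * mk g7 * (mk k7)⁻¹ = mk g7 ^ 2 := by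
    rw [← map_inv, ← map_mul, ← map_mul, ← map_pow]
    exact congrArg mk (by rw [mul_inv_eq_iff_eq_mul]; decide +kernel)
  have : mk k7 * (k * g * k⁻¹) * (mk k7)⁻¹ = (k * g * k⁻¹) ^ 2 := by
    rw [← hi, ← conj_pow, e, ← pow_mul, ← pow_mul, mul_comm]
  refine isConj_iff.2 ⟨k⁻¹ * mk k7 * k, ?_⟩
  rw [conj_pow] at this
  calc _ = k⁻¹ * (mk k7 * (k * g * k⁻¹) * (mk k7)⁻¹) * k := by group
    _ = _ := by rw [this]; group

theorem facts {E : Type*} [Field E] [Fintype E] (hE : Fintype.card E = 4) (e : G ≃* PSL(3, E)) :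
    Facts G :=
  Facts.equiv ⟨pw, four, five, seven⟩
    (e.trans (pslMapEquiv (FiniteField.ringEquivOfCardEq (hE.trans card_GF4.symm))))

end CfsgLib.D4.L34
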