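import Cfsg.Agent.Lib.D4.AS4
import Cfsg.Agent.Lib.D4.DK
import Cfsg.Agent.Lib.StrEmb.Basic
import Cfsg.Agent.S1169

/-! There are no reflections.  See `plans/D4.md`. -/

set_option autoImplicit false

namespace CfsgLib.D4

open Matrix Cfsg Cfsg.Geo CfsgLib.Asch
open scoped MatrixGroups commutatorElement Pointwise

namespace AU

section Grp

variable {G : Type*} [Group G] {z y : G}

theorem mem_smul (S : Sylow 2 G) (k : G) {x : G} :
    x ∈ (k • S : Sylow 2 G) ↔ k⁻¹ * x * k ∈ S := by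
  show x ∈ ((k • S : Sylow 2 G) : Subgroup G) ↔ _
  rw [Sylow.coe_subgroup_smul, Subgroup.mem_pointwise_smul_iff_inv_smul_mem]
  simp only [MulAut.smul_def, MulAut.conj_inv_apply]
  rfl

theorem cen_smul {S : Sylow 2 G} (h1 : z ∈ S) (h2 : ∀ x ∈ S, x * z = z * x) (k : G) :
    k * z * k⁻¹ ∈ (k • S : Sylow 2 G) ∧
      ∀ x ∈ (k • S : Sylow 2 G), x * (k * z * k⁻¹) = (k * z * k⁻¹) * x := by
  refine ⟨(mem_smul S k).2 (by simpa [mul_assoc] using h1), fun x hx => ?_⟩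
  have := h2 _ ((mem_smul S k).1 hx)
  calc x * (k * z * k⁻¹) = k * (k⁻¹ * x * k * z) * k⁻¹ := by group
    _ = _ := by rw [this]; group

theorem ord_conj (h : IsConj z y) : orderOf y = orderOf z := by
  obtain ⟨k, rfl⟩ := isConj_iff.1 h
  exact (MulAut.conj k).orderOf_eq z

theorem tc_conj (hz : IsTwoCentralInvolution z) (hy : IsConj z y) : IsTwoCentralInvolution y := by
  refine ⟨(ord_conj hy).trans hz.1, ?_⟩
  obtain ⟨k, rfl⟩ := isConj_iff.1 hy
  obtain ⟨-, S, h1, h2⟩ := hz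
  exact ⟨_, cen_smul h1 h2 k⟩

theorem conj_cen [Finite G] (hz : IsTwoCentralInvolution z) (S : Sylow 2 G) :
    ∃ w, IsConj z w ∧ w ∈ S ∧ ∀ x ∈ S, x * w = w * x := by
  obtain ⟨-, T, h1, h2⟩ := hz
  obtain ⟨k, rfl⟩ := MulAction.exists_smul_eq G T S
  exact ⟨_, isConj_iff.2 ⟨k, rfl⟩, cen_smul h1 h2 k⟩

theorem tc_sq (hz : IsTwoCentralInvolution z) : z ^ 2 = 1 := hz.1 ▸ pow_orderOf_eq_one z

theorem tc_ne (hz : IsTwoCentralInvolution z) : z ≠ 1 := fun e => by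
  have := hz.1
  simp [e] at this

theorem exists_tc [Finite G] (S : Sylow 2 G) {r : G} (hr : r ∈ S) (h1 : r ≠ 1) :
    ∃ z, orderOf z = 2 ∧ z ∈ S ∧ ∀ x ∈ S, x * z = z * x := by
  haveI : Nontrivial (S : Subgroup G) := ⟨⟨⟨r, hr⟩, 1, fun e => h1 (congrArg Subtype.val e)⟩⟩
  have := S.isPGroup'.center_nontrivial
  obtain ⟨n, hn, h2⟩ :=
    (IsPGroup.nontrivial_iff_card (S.isPGroup'.to_subgroup (Subgroup.center S))).1 this
  obtain ⟨z, hz⟩ := exists_prime_orderOf_dvd_card' (G := Subgroup.center S) 2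
    (by rw [h2]; exact dvd_pow_self 2 hn.ne')
  refine ⟨z.1.1, by rw [Subgroup.orderOf_coe, Subgroup.orderOf_coe, hz], z.1.2, fun x hx => ?_⟩
  exact congrArg Subtype.val (Subgroup.mem_center_iff.1 z.2 ⟨x, hx⟩)

/-- the normaliser of a Sylow `2`-subgroup does not exchange two central elements -/
theorem not_swap [Finite G] (S : Sylow 2 G) (h : ∀ x ∈ S, x * z = z * x) {n : G}
    (hn : n ∈ Subgroup.normalizer (S : Set G)) (e1 : n * z * n⁻¹ = y) (e2 : n * y * n⁻¹ = z) :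
    y = z := by
  obtain ⟨k, m, hm, e⟩ := Nat.exists_eq_two_pow_mul_odd (orderOf_pos n).ne'
  have h1 : IsPGroup 2 (Subgroup.zpowers (n ^ m)) := by
    refine IsPGroup.of_card (n := k) ?_
    rw [Nat.card_zpowers, orderOf_pow_of_dvd hm.pos.ne' (e ▸ Dvd.intro_left _ rfl), e,
      Nat.mul_div_cancel _ hm.pos]
  have h2 : n ^ m ∈ S := by
    have : n ^ m ∈ Subgroup.zpowers (n ^ m) ⊓ Subgroup.normalizer (S : Set G) :=
      Subgroup.mem_inf.2 ⟨Subgroup.mem_zpowers _, pow_mem hn m⟩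
    exact (Subgroup.mem_inf.1 (h1.inf_normalizer_sylow S ▸ this)).2
  obtain ⟨j, rfl⟩ := hm
  have h3 : Commute (n ^ 2) z := by
    have : n ^ 2 * z * (n ^ 2)⁻¹ = z := by
      calc _ = n * (n * z * n⁻¹) * n⁻¹ := by rw [pow_two]; group
        _ = z := by rw [e1, e2]
    exact mul_inv_eq_iff_eq_mul.1 this
  have h4 := h _ h2
  rw [pow_succ', pow_mul, mul_assoc, (h3.pow_left j).eq, ← mul_assoc, ← mul_assoc] at h4
  rw [← e1, mul_right_cancel h4, mul_inv_cancel_right]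

end Grp

variable {G K : Type*} [Group G] [Field K] {π : G →* PG4 K}

theorem cb_one (π : G →* PG4 K) : cb π 1 = π := by
  ext g
  simp [cb]

theorem conj_of {c g : G} {C R M : M4 K} (hc : Rep π c C) (hg : Rep π g R) (e : C * R = M * C) :
    Rep π (c * g * c⁻¹) M :=
  (hc.conj hg).congr (by rw [e, mul_assoc, hc.mul_inv, mul_one])

/-- monomial matrices with fourth roots of unity as entries -/
def Mq (A : M2 K) : Prop := ∃ a b : K, a ^ 4 = 1 ∧ b ^ 4 = 1 ∧ (A = d2 a b ∨ A = !![0, a; b, 0])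

theorem Mq.mul {A B : M2 K} (h : Mq A) (h' : Mq B) : Mq (A * B) := by
  obtain ⟨a, b, ha, hb, e⟩ := h
  obtain ⟨c, d, hc, hd, e'⟩ := h'
  rcases e with rfl | rfl <;> rcases e' with rfl | rfl
  · exact ⟨a * c, b * d, by rw [mul_pow, ha, hc, one_mul], by rw [mul_pow, hb, hd, one_mul],
      .inl (by simp)⟩
  · exact ⟨a * c, b * d, by rw [mul_pow, ha, hc, one_mul], by rw [mul_pow, hb, hd, one_mul],
      .inr (by simp)⟩
  · exact ⟨a * d, b * c, by rw [mul_pow, ha, hd, one_mul], by rw [mul_pow, hb, hc, one_mul],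
      .inr (by simp)⟩
  · exact ⟨a * d, b * c, by rw [mul_pow, ha, hd, one_mul], by rw [mul_pow, hb, hc, one_mul],
      .inl (by simp)⟩

theorem Mq.one : Mq (1 : M2 K) := ⟨1, 1, by simp, by simp, .inl d2_one.symm⟩

theorem d2_four {a b : K} (ha : a ^ 4 = 1) (hb : b ^ 4 = 1) : (d2 a b) ^ 4 = 1 := by
  have : (d2 a b) ^ 4 = d2 (a ^ 4) (b ^ 4) := by simp [pow_succ]
  rw [this, ha, hb, d2_one]

theorem Mq.pow {A : M2 K} (h : Mq A) : A ^ 8 = 1 := by
  obtain ⟨a, b, ha, hb, rfl | rfl⟩ := h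
  · rw [show 8 = 4 * 2 from rfl, pow_mul, d2_four ha hb, one_pow]
  · have : (!![0, a; b, 0] : M2 K) ^ 2 = d2 (a * b) (b * a) := by simp [pow_succ]
    rw [show 8 = 2 * 4 from rfl, pow_mul, this,
      d2_four (by rw [mul_pow, ha, hb, one_mul]) (by rw [mul_pow, ha, hb, one_mul])]

theorem exists_syl (hπ : Function.Injective π) :
    ∃ S : Sylow 2 G, ∀ g A B, Mq A → Mq B → Rep π g (bd A B) → g ∈ S := by
  let Q0 : Submonoid G :=
    { carrier := {g | ∃ A B, Mq A ∧ Mq B ∧ Rep π g (bd A B)}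
      one_mem' := ⟨1, 1, .one, .one, (rep_one π).congr (by simp)⟩
      mul_mem' := fun ⟨_, _, a, b, h⟩ ⟨_, _, c, d, h'⟩ =>
        ⟨_, _, a.mul c, b.mul d, (h.mul h').congr (bd_mul ..)⟩ }
  have h8 : ∀ g ∈ Q0, g ^ 8 = 1 := fun g ⟨A, B, a, b, h⟩ =>
    Rep.eq_one' hπ ((h.pow 8).congr (by rw [DKp.bd_pow, a.pow, b.pow]; exact fromBlocks_one))
  let Q : Subgroup G :=
    { Q0 with
      inv_mem' := fun {g} hg => by
        have : g⁻¹ = g ^ 7 := by rw [inv_eq_iff_mul_eq_one, ← pow_succ', h8 g hg]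
        exact this ▸ Q0.pow_mem hg 7 }
  have hQ : IsPGroup 2 Q := fun g => ⟨3, Subtype.ext (h8 g g.2)⟩
  obtain ⟨S, hS⟩ := hQ.exists_le_sylow
  exact ⟨S, fun g A B a b h => hS ⟨A, B, a, b, h⟩⟩

theorem scalar_of (h2 : (2 : K) ≠ 0) {j : K} (hj : j ≠ 0) {A : M2 K}
    (e1 : A * d2 1 (-1) = d2 1 (-1) * A) (e2 : A * !![0, -j; j, 0] = !![0, -j; j, 0] * A) :
    ∃ a : K, A = a • 1 := by
  have a := congrFun (congrFun e1 0) 1
  have b := congrFun (congrFun e1 1) 0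
  have c := congrFun (congrFun e2 1) 0
  simp [mul_apply, Fin.sum_univ_two, -mul_eq_zero] at a b c
  have a' : A 0 1 = 0 := (mul_eq_zero.1 (by linear_combination -a)).resolve_left h2
  have b' : A 1 0 = 0 := (mul_eq_zero.1 (by linear_combination b)).resolve_left h2
  have c' : A 1 1 = A 0 0 := mul_left_cancel₀ hj (by linear_combination c)
  refine ⟨A 0 0, ?_⟩
  ext i k
  fin_cases i <;> fin_cases k <;> simp [a', b', c']

theorem da_sq {A : M2 K} (h : DA A) : ∃ a b : K, A * A = d2 a b := by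
  rcases h with ⟨h1, h2⟩ | ⟨h1, h2⟩
  · refine ⟨A 0 0 * A 0 0, A 1 1 * A 1 1, ?_⟩
    ext i k
    fin_cases i <;> fin_cases k <;> simp [mul_apply, Fin.sum_univ_two, h1, h2]
  · refine ⟨A 0 1 * A 1 0, A 1 0 * A 0 1, ?_⟩
    ext i k
    fin_cases i <;> fin_cases k <;> simp [mul_apply, Fin.sum_univ_two, h1, h2]

theorem dg_mul (a b c d e f g h : K) : dg a b c d * dg e f g h = dg (a * e) (b * f) (c * g) (d * h) := by
  rw [bd_mul]
  simp

theorem dg_smul (t a b c d : K) : t • dg a b c d = dg (t * a) (t * b) (t * c) (t * d) := by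
  ext (x | x) (y | y) <;> fin_cases x <;> fin_cases y <;> simp

variable [Finite G] [IsAlgClosed K]

theorem core (p : ℕ) [Fact p.Prime] [CharP K p] (hx : Cx π) (hp : p ≠ 2) (h2 : (2 : K) ≠ 0)
    {z y r : G} (hz : IsTwoCentralInvolution z) (hy : IsConj z y) (ha : Anti π y z)
    (rz : Rep π z (dg 1 (-1) 1 (-1))) (ry : Rep π y (bd !![0, 1; 1, 0] !![0, 1; 1, 0]))
    (rr : Rep π r (dg 1 1 (-1) 1)) : False := by
  have fr : Refl π r := refl_of_right h2 (A := d2 (-1) 1) (by simp [← one_fin_two])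
    (by simp) (rr.congr (by rw [dg, d2_one]))
  have hr : ∃ r, Refl π r := ⟨r, fr⟩
  have hy' := tc_conj hz hy
  obtain ⟨c, hc, ec⟩ := (ra hx h2 hr hz).four
  obtain ⟨i, hi, rc⟩ := Zc_four' hx.inj h2 rz hc ec
  obtain ⟨d, hd, ed⟩ := (ra hx h2 hr hy').four
  obtain ⟨s, t, rd⟩ := Zc_poly hx.inj h2 (tc_sq hy') (tc_ne hy') (ra hx h2 hr hy').not_refl hd ry
  replace rd : Rep π d (bd !![s, t; t, s] !![s, t; t, s]) := rd.congr (by
    ext (a | a) (b | b) <;> fin_cases a <;> fin_cases b <;> simp)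
  obtain ⟨l, hl, el⟩ := ry.unique (ed ▸ rd.pow 2)
  rw [pow_two, bd_mul, bd_eq_smul] at el
  have e0 := congrFun (congrFun el.1 0) 0
  have e1 := congrFun (congrFun el.1 0) 1
  simp [-mul_eq_zero] at e0 e1
  have hs : s ≠ 0 := fun e => hl (by rw [← e1, e]; simp)
  obtain ⟨j, rfl⟩ : ∃ j, t = s * j := ⟨t / s, by field_simp⟩
  have hj : j ^ 2 = -1 := mul_left_cancel₀ (mul_ne_zero hs hs) (by linear_combination e0)
  have hj0 : j ≠ 0 := fun e => by simp [e] at hj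
  replace rd : Rep π d (bd !![1, j; j, 1] !![1, j; j, 1]) := (rd.smul (inv_ne_zero hs)).congr (by
    ext (a | a) (b | b) <;> fin_cases a <;> fin_cases b <;> simp [hs])
  have r3 : Rep π (y * r * y⁻¹) (bd 1 (d2 1 (-1))) := conj_of ry rr (by
    rw [bd_mul, bd_mul]; simp)
  have f3 := fr.conj y
  have r1 : Rep π (y * r * y⁻¹ * z) (bd (d2 1 (-1)) 1) := (r3.mul rz).congr (by
    rw [bd_mul]; simp [← one_fin_two])
  have f1 := refl_of_left h2 (by simp [← one_fin_two]) (by simp) r1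
  have ej : (!![1, j; j, 1] : M2 K) * d2 1 (-1) = !![0, -j; j, 0] * !![1, j; j, 1] := by
    ext a b
    fin_cases a <;> fin_cases b <;> simp [mul_apply, Fin.sum_univ_two] <;>
      first | linear_combination hj | linear_combination -hj
  have r2 := conj_of (M := bd !![0, -j; j, 0] 1) rd r1 (by rw [bd_mul, bd_mul, ej, mul_one, one_mul])
  have r4 := conj_of (M := bd 1 !![0, -j; j, 0]) rd r3 (by rw [bd_mul, bd_mul, ej, mul_one, one_mul])
  have f2 := f1.conj d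
  have f4 := f3.conj d
  have rx : Rep π (r * (y * r * y⁻¹)) zz := (rr.mul r3).congr (by
    rw [bd_mul, zz_eq]; simp)
  obtain ⟨S, hS⟩ := exists_syl hx.inj
  obtain ⟨w, hw, -, cw⟩ := conj_cen hz S
  have m1 : Mq (d2 1 (-1) : M2 K) := ⟨1, -1, by simp, by norm_num, .inl rfl⟩
  have m2 : Mq (!![0, -j; j, 0] : M2 K) := ⟨-j, j, by linear_combination (j ^ 2 - 1) * hj,
    by linear_combination (j ^ 2 - 1) * hj, .inr rfl⟩
  have c0 := fr.com hx.inj h2 (cw _ (hS _ _ _ ⟨1, 1, by simp, by simp, .inl rfl⟩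
    ⟨-1, 1, by norm_num, by simp, .inl rfl⟩ rr)).symm
  have c1 := f1.com hx.inj h2 (cw _ (hS _ _ _ m1 .one r1)).symm
  have c2 := f2.com hx.inj h2 (cw _ (hS _ _ _ m2 .one r2)).symm
  have c3 := f3.com hx.inj h2 (cw _ (hS _ _ _ .one m1 r3)).symm
  have c4 := f4.com hx.inj h2 (cw _ (hS _ _ _ .one m2 r4)).symm
  obtain ⟨A, B, rw'⟩ := (mem_C0_iff h2 rx).2 (c0.symm.mul c3.symm).symm
  have d1 := c1.eq rw' r1
  have d2' := c2.eq rw' r2
  have d3 := c3.eq rw' r3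
  have d4 := c4.eq rw' r4
  rw [bd_mul, bd_mul, fromBlocks_inj] at d1 d2' d3 d4
  obtain ⟨a, rfl⟩ := scalar_of h2 hj0 d1.1 d2'.1
  obtain ⟨b, rfl⟩ := scalar_of h2 hj0 d3.2.2.2 d4.2.2.2
  have hb : b ≠ 0 := by
    rintro rfl
    exact rw'.det_ne (by rw [det_bd]; simp)
  have hw' := tc_conj hz hw
  have nr : ¬ Refl π (r * (y * r * y⁻¹)) := not_refl_of_trace h2 rx (by simp [trace])
  have x2 : (r * (y * r * y⁻¹)) ^ 2 = 1 := Rep.eq_one' hx.inj ((rx.pow 2).congr (by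
    rw [pow_two, bd_mul]; simp))
  have cy : Com π y (r * (y * r * y⁻¹)) := (mem_C0_iff h2 rx).1 ⟨_, _, ry⟩
  have x1 : r * (y * r * y⁻¹) ≠ 1 := fun e => by
    rw [e] at rx
    obtain ⟨u, -, e'⟩ := rx.scalar_of_one
    have a1 := congrFun (congrFun e' (.inl 0)) (.inl 0)
    have a2 := congrFun (congrFun e' (.inr 0)) (.inr 0)
    simp at a1 a2
    exact h2 (by linear_combination a1 - a2)
  have hm : w ∈ Zc π (r * (y * r * y⁻¹)) := (mem_Zc_iff h2 rx).2 ⟨b⁻¹ * a,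
    (rw'.smul (inv_ne_zero hb)).congr (by simp [fromBlocks_smul, smul_smul, hb])⟩
  obtain rfl := (Zc_sq hx.inj h2 x2 x1 nr hm (tc_sq hw')).resolve_left (tc_ne hw')
  rcases dk4 p hx hp hi rc with h | h
  · rcases h _ _ _ rd with h | h
    · exact hj0 (by simpa using h.1)
    · simpa using h.1
  · refine not_s4 hx h2 hr hw' hw.symm (fun e => cy.not_anti h2 (e ▸ ha))
      ((mem_C0_iff h2 rx).1 ⟨_, _, rz⟩) ⟨1, ?_⟩
    rw [cb_one]
    exact ⟨rx, h⟩

theorem core2 (p : ℕ) [Fact p.Prime] [CharP K p] (hx : Cx π) (hp : p ≠ 2) (h2 : (2 : K) ≠ 0)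
    {z y r : G} (hz : IsTwoCentralInvolution z) (hy : IsConj z y) (ha : Anti π y z)
    (rz : Rep π z zz) {A : M2 K} (hA : A * A = 1) (hd : A.det = -1) (rr : Rep π r (bd A 1)) :
    False := by
  obtain ⟨P, hP⟩ := exists_d2 h2 hA hd
  have r1 := rr.bdG P 1
  rw [hP, map_one] at r1
  have z1 := rz.bdG_zz P 1
  obtain ⟨Q, y2⟩ := frame_anti h2 z1 (tc_sq (tc_conj hz hy)) ((anti_cb _).2 ha)
  have r2 := r1.bdG 1 Q
  have z2 := z1.bdG_zz 1 Q
  rw [zz_eq] at z2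
  refine core p (((hx.cb _).cb _).cb _) hp h2 hz hy ((anti_cb _).2 ((anti_cb _).2 ((anti_cb _).2 ha)))
    z2.s23 ((y2.permG s23).congr ?_) (Rep.s23 (r2.congr ?_))
  · ext (a | a) (b | b) <;> fin_cases a <;> fin_cases b <;> simp [Equiv.swap_apply_def]
  · rw [map_one, inv_one, cj_apply, dg, d2_one]
    simp

theorem two_ne (p : ℕ) [Fact p.Prime] [CharP K p] (hp : p ≠ 2) : (2 : K) ≠ 0 := fun e =>
  hp ((Nat.prime_dvd_prime_iff_eq Fact.out Nat.prime_two).1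
    ((CharP.cast_eq_zero_iff K p 2).1 (by simpa using e)))

end AU

variable {G K : Type*} [Group G] [Finite G] [Field K] [IsAlgClosed K] {π : G →* PG4 K}

theorem not_anti (p : ℕ) [Fact p.Prime] [CharP K p] (hx : Cx π) (hp : p ≠ 2) (hr : ∃ r, Refl π r) {z y : G}
    (hz : IsTwoCentralInvolution z) (hy : IsConj z y) : ¬ Anti π y z := by
  intro ha
  have h2 : (2 : K) ≠ 0 := AU.two_ne p hp
  have h := ra hx h2 hr hz
  obtain ⟨B, hB⟩ := inv_nf hx.inj h2 (AU.tc_sq hz) (AU.tc_ne hz) h.not_refl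
  obtain ⟨r, fr, e⟩ := h.refl
  obtain ⟨A, hA, hd, rr | rr⟩ := refl_blocks h2 hB ((refl_cb B).2 fr)
    ((com_cb B).2 (fr.com hx.inj h2 e.symm).symm)
  · exact AU.core2 p (hx.cb B) hp h2 hz hy ((anti_cb _).2 ha) hB hA hd rr
  · exact AU.core2 p ((hx.cb B).cb swG) hp h2 hz hy ((anti_cb _).2 ((anti_cb _).2 ha)) hB.swG_zz
      hA hd rr.swG

namespace AU

theorem da1 (p : ℕ) [Fact p.Prime] [CharP K p] (hx : Cx π) (hp : p ≠ 2) (hr : ∃ r, Refl π r)
    {a b c : G} (ha : IsTwoCentralInvolution a) (hb : IsConj a b) (hne : b ≠ a) (hc : Com π b a)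
    (ra : Rep π a zz) {i : K} (hi : i ^ 2 = -1) {B : M2 K} (rc : Rep π c (bd (d2 i 1) B)) :
    ∀ g A C, Rep π g (bd A C) → DA A := by
  refine (dk4 p hx hp hi rc).resolve_right fun h => not_s4 hx (two_ne p hp) hr ha hb hne hc ⟨1, ?_⟩
  rw [cb_one]
  exact ⟨ra, h⟩

theorem uniq0 (p : ℕ) [Fact p.Prime] [CharP K p] (hx : Cx π) (hp : p ≠ 2) (hr : ∃ r, Refl π r)
    {a b b' : G} (ha : IsTwoCentralInvolution a) (hb : IsConj a b) (hb' : IsConj a b') (hne : b ≠ a)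
    (hne' : b' ≠ a) (hc' : Com π b' a) (r1 : Rep π a zz) (r2 : Rep π b (dg 1 (-1) 1 (-1))) :
    b' = b ∨ b' = a * b := by
  have h2 : (2 : K) ≠ 0 := two_ne p hp
  have hc : Com π b a := (mem_C0_iff h2 r1).1 ⟨_, _, r2⟩
  obtain ⟨c, m, e⟩ := (ra hx h2 hr (tc_conj ha hb)).four
  obtain ⟨i, hi, rc⟩ := Zc_four' hx.inj h2 r2 m e
  have t' := tc_conj ha hb'
  obtain ⟨d, m', rfl⟩ := (ra hx h2 hr t').four
  obtain ⟨A, B, rd⟩ := (mem_C0_iff h2 r1).2 (hc'.symm.zc m').symm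
  obtain ⟨α, β, e1⟩ := da_sq (da1 p hx hp hr ha hb hne hc r1 hi rc _ _ _ rd)
  obtain ⟨γ, δ, e2⟩ := da_sq (da1 p (hx.cb swG) hp (hr.imp fun _ => (refl_cb _).2) ha hb hne
    ((com_cb _).2 hc) r1.swG_zz hi rc.swG _ _ _ rd.swG)
  have r3 : Rep π (d ^ 2) (dg α β γ δ) := (rd.pow 2).congr (by rw [pow_two, bd_mul, e1, e2])
  have ht := trace_eq_zero hx.inj h2 (tc_sq t') (tc_ne t') (ra hx h2 hr t').not_refl r3
  obtain ⟨l, hl, el⟩ := r3.scalar_of_pow (tc_sq t')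
  rw [pow_two, dg_mul] at el
  have a1 := congrFun (congrFun el (.inl 0)) (.inl 0)
  have a2 := congrFun (congrFun el (.inl 1)) (.inl 1)
  have a3 := congrFun (congrFun el (.inr 0)) (.inr 0)
  have a4 := congrFun (congrFun el (.inr 1)) (.inr 1)
  simp [trace] at a1 a2 a3 a4 ht
  have h0 : α ≠ 0 := fun e => hl (by rw [← a1, e, mul_zero])
  have h3 := mul_ne_zero h2 h0
  have h4 := mul_ne_zero h2 h3
  have r4 := r1.mul r2
  rw [zz_eq] at r1 r4
  rw [dg_mul] at r4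
  rcases mul_self_eq_mul_self_iff.1 (a2.trans a1.symm) with rfl | rfl <;>
    rcases mul_self_eq_mul_self_iff.1 (a3.trans a1.symm) with rfl | rfl <;>
    rcases mul_self_eq_mul_self_iff.1 (a4.trans a1.symm) with rfl | rfl
  · exact (h4 (by linear_combination ht)).elim
  · exact (h3 (by linear_combination ht)).elim
  · exact (h3 (by linear_combination ht)).elim
  · exact (hne' (r1.eq_of_smul (c := β) hx.inj (r3.congr (by rw [dg_smul]; simp))).symm).elim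
  · exact (h3 (by linear_combination ht)).elim
  · exact .inl (r2.eq_of_smul (c := γ) hx.inj (r3.congr (by rw [dg_smul]; simp))).symm
  · exact .inr (r4.eq_of_smul (c := δ) hx.inj (r3.congr (by rw [dg_smul]; simp))).symm
  · exact (h3 (by linear_combination -ht)).elim

theorem uniq (p : ℕ) [Fact p.Prime] [CharP K p] (hx : Cx π) (hp : p ≠ 2) (hr : ∃ r, Refl π r)
    {a b b' : G} (ha : IsTwoCentralInvolution a) (hb : IsConj a b) (hb' : IsConj a b') (hne : b ≠ a)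
    (hne' : b' ≠ a) (e : b * a = a * b) (e' : b' * a = a * b') : b' = b ∨ b' = a * b := by
  have h2 : (2 : K) ≠ 0 := two_ne p hp
  have hc := (com_or_anti (π := π) (tc_sq ha) e).resolve_right (not_anti p hx hp hr ha hb)
  have hc' := (com_or_anti (π := π) (tc_sq ha) e').resolve_right (not_anti p hx hp hr ha hb')
  obtain ⟨B, hB⟩ := inv_nf hx.inj h2 (tc_sq ha) (tc_ne ha) (ra hx h2 hr ha).not_refl
  have t := tc_conj ha hb
  obtain ⟨P, Q, h⟩ := frame_com (hx.cb B).inj h2 hB (tc_sq t) (tc_ne t) hne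
    (fun h => (ra hx h2 hr t).not_refl ((refl_cb B).1 h)) ((com_cb B).2 hc)
  exact uniq0 p ((hx.cb B).cb _) hp (hr.imp fun _ h => (refl_cb _).2 ((refl_cb _).2 h)) ha hb hb'
    hne hne' ((com_cb _).2 ((com_cb _).2 hc')) (hB.bdG_zz P Q) h

end AU

theorem no_refl (p : ℕ) [Fact p.Prime] [CharP K p] (hx : Cx π) (hp : p ≠ 2) : NR π := by
  intro r fr
  have hr : ∃ r, Refl π r := ⟨r, fr⟩
  have h2 : (2 : K) ≠ 0 := AU.two_ne p hp
  have or : orderOf r = 2 := orderOf_eq_prime (fr.sq hx.inj) (fr.ne_one h2)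
  obtain ⟨S, hS⟩ := (IsPGroup.of_card (p := 2) (n := 1) (G := Subgroup.zpowers r)
    (by rw [Nat.card_zpowers, or]; rfl)).exists_le_sylow
  have rS : r ∈ S := hS (Subgroup.mem_zpowers r)
  obtain ⟨z, oz, zS, cz⟩ := AU.exists_tc S rS (fr.ne_one h2)
  have hz : IsTwoCentralInvolution z := ⟨oz, S, zS, cz⟩
  obtain ⟨k, yS, hne⟩ := hx.exists_conj_mem S (AU.tc_sq hz) (AU.tc_ne hz) zS
  have hy : IsConj z (k * z * k⁻¹) := isConj_iff.2 ⟨k, rfl⟩
  generalize k * z * k⁻¹ = y at yS hne hy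
  have U : ∀ w ∈ S, IsConj z w → w = z ∨ w = y ∨ w = z * y := fun w hw h =>
    or_iff_not_imp_left.2 fun h1 => AU.uniq p hx hp hr hz hy h hne h1 (cz y yS) (cz w hw)
  have hzy : IsConj z (z * y) := by
    by_contra hn
    have cy : ∀ s ∈ S, s * y = y * s := fun s hs => by
      have h1 := hy.trans (isConj_iff.2 ⟨s, rfl⟩)
      rcases U _ (S.1.mul_mem (S.1.mul_mem hs yS) (S.1.inv_mem hs)) h1 with e | e | e
      · rw [mul_inv_eq_iff_eq_mul, ← cz s hs] at e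
        exact (hne (mul_left_cancel e)).elim
      · exact mul_inv_eq_iff_eq_mul.1 e
      · exact (hn (e ▸ h1)).elim
    obtain ⟨g, rfl⟩ := isConj_iff.1 hy
    obtain ⟨n, hn', e⟩ := S.conj_eq_normalizer_conj_of_mem_centralizer z g⁻¹
      (fun x hx => cz x hx) (fun x hx => by simpa using cy x hx)
    rw [inv_inv] at e
    have h1 := hy.trans (isConj_iff.2 ⟨n⁻¹, rfl⟩)
    have h3 : n⁻¹ * (g * z * g⁻¹) * n⁻¹⁻¹ ∈ S :=
      (Subgroup.mem_normalizer_iff.1 (inv_mem hn') _).1 yS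
    rcases U _ h3 h1 with e' | e' | e'
    · exact hne (AU.not_swap S cz (inv_mem hn') (by rw [e, inv_inv]) e')
    · conv_rhs at e' => rw [e]
      exact hne (by simpa using e')
    · exact hn (e' ▸ h1)
  have z2 : z * z = 1 := by rw [← pow_two, AU.tc_sq hz]
  have y2 : y * y = 1 := by rw [← pow_two, AU.tc_sq (AU.tc_conj hz hy)]
  have yz := cz y yS
  have E : ∀ w, (w = 1 ∨ w ∈ S ∧ IsConj z w) ↔ w = 1 ∨ w = z ∨ w = y ∨ w = z * y := fun w =>
    or_congr_right ⟨fun h => U w h.1 h.2, by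
      rintro (rfl | rfl | rfl)
      exacts [⟨zS, .refl _⟩, ⟨yS, hy⟩, ⟨S.1.mul_mem zS yS, hzy⟩]⟩
  have t1 : ∀ u, z * (z * u) = u := fun u => by rw [← mul_assoc, z2, one_mul]
  have t2 : ∀ u, y * (z * u) = z * (y * u) := fun u => by rw [← mul_assoc, yz, mul_assoc]
  let V : Subgroup G :=
    { carrier := {w | w = 1 ∨ w = z ∨ w = y ∨ w = z * y}
      one_mem' := .inl rfl
      mul_mem' := by
        rintro a b (rfl | rfl | rfl | rfl) (rfl | rfl | rfl | rfl) <;>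
          simp [mul_assoc, z2, y2, yz, t1, t2]
      inv_mem' := by
        rintro a (rfl | rfl | rfl | rfl)
        · exact .inl inv_one
        · exact .inr (.inl (inv_eq_of_mul_eq_one_right z2))
        · exact .inr (.inr (.inl (inv_eq_of_mul_eq_one_right y2)))
        · exact .inr (.inr (.inr (inv_eq_of_mul_eq_one_right (by rw [mul_assoc, t2, t1, y2])))) }
  haveI := hx.simple
  rcases Cfsg.Agent.S1169.result S V
    (fun e => AU.tc_ne hz (Subgroup.mem_bot.1 (e ▸ (.inr (.inl rfl) : z ∈ V))))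
    ⟨⟨by
      rintro ⟨a, rfl | rfl | rfl | rfl⟩ ⟨b, rfl | rfl | rfl | rfl⟩ <;> apply Subtype.ext <;>
        simp [mul_assoc, z2, y2, yz, t1, t2]⟩⟩
    ⟨fun w hw => ((E w).2 hw).elim (fun e => e ▸ one_mem _) And.left, fun w hw g hg => (E _).1
      (((E w).2 hw).imp (fun e => by simp [e]) fun h => ⟨hg, h.2.trans (isConj_iff.2 ⟨g, rfl⟩)⟩)⟩
    with h | ⟨H, hH⟩
  · exact (ra hx h2 hr ⟨or, S, rS, fun x hx =>
      congrArg Subtype.val (h.is_comm.comm ⟨x, hx⟩ ⟨r, rS⟩)⟩).not_refl fr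
  · have := StrEmb.nontrivial_quotient hH.1
    exact (ra hx h2 hr (AU.tc_conj hz
      ((StrEmb.uniqueFix_of_isStronglyEmbedded hH).isConj oz or))).not_refl fr

end CfsgLib.D4
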