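import Cfsg.Agent.Lib.D4.Defs
import Cfsg.Prelude.Def_Spor_Mathieu
import Cfsg.Agent.Lib.SL2.Basic
import Cfsg.Agent.Lib.Mathieu.L34
import Cfsg.Agent.Lib.Mathieu.Syl2
import Cfsg.Agent.Lib.MathRec.U11
import Cfsg.Agent.Lib.Unitary.Syl3
import Cfsg.Agent.Lib.S4Cor.Basic
import Cfsg.Agent.Lib.Gold.All
import Cfsg.Agent.S0506

/-! Frobenius subgroups and other small configurations.  See `plans/D4.md`. -/

set_option autoImplicit false

namespace CfsgLib.D4

open Matrix Cfsg Cfsg.Geo CfsgLib.Asch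
open scoped MatrixGroups commutatorElement

variable {G : Type*} [Group G] {F : Type*} [Field F] [Fintype F]

namespace Wit

variable {H : Type*} [Group H] {f : H →* G}

theorem e87_map (hf : Function.Injective f) : E87 H → E87 G := fun ⟨a, h, h1, h2, h3, h4, h5, h6, h7, h8⟩ =>
  ⟨fun i => f (a i), f h, fun i => by simp [h1], by rw [← map_pow, h2, map_one],
    fun i j => by rw [← map_mul, h3, map_mul], h4.imp (fun e => by simp [e]) fun e => by simp [e],
    (map_ne_one_iff f hf).2 h5, hf.ne h6, hf.ne h7, map_mul f (a 0) (a 1) ▸ hf.ne h8⟩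

theorem e9c_map (hf : Function.Injective f) : E9c H → E9c G := fun ⟨a, b, h1, h2, h3, h4, h5, h6, h7⟩ =>
  ⟨f a, f b, by rw [← map_pow, h1, map_one], (map_ne_one_iff f hf).2 h2, by rw [← map_mul, h3, map_mul],
    map_inv f a ▸ f.map_isConj h4, f.map_isConj h5, map_mul f a b ▸ f.map_isConj h6, by
      simpa using f.map_isConj h7⟩

theorem aut5_map (hf : Function.Injective f) {r : ℕ} : Aut5 H r → Aut5 G r := fun ⟨x, h, h1, ⟨i, h2⟩, h3, h4⟩ =>
  ⟨f x, f h, by rw [← map_pow, h1, map_one], ⟨i, by simpa using congrArg f h2⟩,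
    fun e => h3 (Commute.of_map hf (map_pow f h 3 ▸ e)), fun e => h4 (Commute.of_map hf (map_pow f h 4 ▸ e))⟩

theorem e87_of {t h a b : G} (e1 : h * t = a * h) (e2 : h * a = b * h) (e3 : h * b = t * a * h) (t2 : t * t = 1)
    (c1 : t * a = a * t) (c2 : t * b = b * t) (n0 : t ≠ 1) (n1 : a ≠ t) (n2 : b ≠ t) (n3 : b ≠ t * a) : E87 G := by
  let u : ℕ → G := fun i => h ^ i * t * (h ^ i)⁻¹
  have s : ∀ i j, u (i + j) = h ^ i * u j * (h ^ i)⁻¹ := fun i j => by simp only [u, pow_add]; group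
  have s1 : ∀ i, u (i + 1) = h * u i * h⁻¹ := fun i => by rw [add_comm, s, pow_one]
  have u0 : u 0 = t := by simp [u]
  have u1 : u 1 = a := by rw [s1, u0, e1, mul_inv_cancel_right]
  have u2 : u 2 = b := by rw [s1, u1, e2, mul_inv_cancel_right]
  have u3 : u 3 = u 0 * u 1 := by rw [s1, u2, e3, mul_inv_cancel_right, u0, u1]
  have c : ∀ i, Commute (u 0) (u i) ∧ Commute (u 0) (u (i + 1)) ∧ Commute (u 0) (u (i + 2)) := fun i => by
    induction i with
    | zero => exact ⟨rfl, by rw [u0, u1]; exact c1, by rw [u0, u2]; exact c2⟩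
    | succ i ih =>
      refine ⟨ih.2.1, ih.2.2, ?_⟩
      rw [show u (i + 1 + 2) = u (i + 0) * u (i + 1) by rw [add_assoc, s i (1 + 2), s i 0, s i 1, u3, conj_mul]]
      exact ih.1.mul_right ih.2.1
  have c' : ∀ i j, u i * u (i + j) = u (i + j) * u i := fun i j => by
    rw [← add_zero i, s, add_zero, s, conj_mul, conj_mul, (c j).1.eq]
  refine ⟨u, h, s1, by rw [u0, sq, t2], fun i j => ?_, .inl u3, by rwa [u0], by rwa [u0, u1], by rwa [u0, u2],
    by rwa [u0, u1, u2]⟩
  rcases le_total i j with e | e <;> obtain ⟨k, rfl⟩ := Nat.exists_eq_add_of_le e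
  exacts [c' i k, (c' j k).symm]

omit [Fintype F] in
theorem e87_fld (h2 : (2 : F) = 0) {u : F → G} (add : ∀ x y, u (x + y) = u x * u y) (inj : Function.Injective u)
    {h : G} {κ : F} (hκ : κ ^ 3 = κ + 1 ∨ κ ^ 4 = κ + 1) (e : ∀ x, h * u x * h⁻¹ = u (κ * x)) : E87 G := by
  have u0 : u 0 = 1 := mul_eq_left.1 (by rw [← add 0 0, add_zero])
  refine ⟨fun i => u (κ ^ i), h, fun i => by simp only [e, pow_succ'], by rw [sq, ← add, ← two_mul, h2, zero_mul, u0],
    fun i j => by rw [← add, ← add, add_comm], hκ.imp (fun k => ?_) fun k => ?_, u0 ▸ inj.ne (by simp),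
    inj.ne fun k => ?_, inj.ne fun k => ?_, add _ _ ▸ inj.ne fun k => ?_⟩
  · simp only [← add, k, pow_zero, pow_one, add_comm]
  · simp only [← add, k, pow_zero, pow_one, add_comm]
  all_goals rcases hκ with k' | k' <;> grind

theorem exists_kappa (hF : Fintype.card F = 8 ∨ Fintype.card F = 16) :
    (2 : F) = 0 ∧ ∃ κ : F, κ ≠ 0 ∧ (κ ^ 3 = κ + 1 ∨ κ ^ 4 = κ + 1) := by
  classical
  have h2 : (2 : F) = 0 := hF.elim (Unitary.two_eq_zero_of_card (n := 3)) (Unitary.two_eq_zero_of_card (n := 4))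
  obtain ⟨g, hg⟩ := IsCyclic.exists_ofOrder_eq_natCard (α := Fˣ)
  rw [Nat.card_eq_fintype_card, Fintype.card_units] at hg
  have p : ∀ n : ℕ, (g : F) ^ n = 1 ↔ Fintype.card F - 1 ∣ n := fun n => by
    rw [← hg, orderOf_dvd_iff_pow_eq_one, ← Units.val_pow_eq_pow_val, Units.val_eq_one]
  have g0 := g.ne_zero
  have i := g.mul_inv
  refine ⟨h2, ?_⟩
  rcases hF with hF | hF <;> rw [hF] at p
  · have h1 := (p 1).not.2 (by decide)
    have h3 : ((g : F) ^ 3 + g + 1) * (g ^ 3 + g ^ 2 + 1) = 0 := by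
      have := (p 7).2 dvd_rfl
      grind
    rcases mul_eq_zero.1 h3 with e | e
    exacts [⟨g, g0, .inl (by grind)⟩, ⟨g⁻¹.1, Units.ne_zero _, .inl (by grind)⟩]
  · have h1 := (p 3).not.2 (by decide)
    have h5 := (p 5).not.2 (by decide)
    have h3 : ((g : F) ^ 4 + g + 1) * (g ^ 4 + g ^ 3 + 1) = 0 :=
      (mul_eq_zero.1 (by
        linear_combination ((g : F) - 1) * (p 15).2 dvd_rfl + ((g : F) + g ^ 4 - g ^ 6 - g ^ 7 - g ^ 9 - g ^ 10 + g ^ 12
          + g ^ 15) * h2)).resolve_left (mul_ne_zero (sub_ne_zero.2 h1) (sub_ne_zero.2 h5))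
    rcases mul_eq_zero.1 h3 with e | e
    exacts [⟨g, g0, .inr (by grind)⟩, ⟨g⁻¹.1, Units.ne_zero _, .inr (by grind)⟩]

section Code

open Mathieu

variable {M : Subgroup P24}

theorem cd_inj {g h : M} (e : code g = code h) : g = h := Subtype.ext (code_injective e)

theorem cd_el {a : ℕ} (h : Has M a) : ∃ g : M, code g = a := let ⟨g, h, e⟩ := h; ⟨⟨g, h⟩, e⟩

theorem e9c_code {a b c1 c2 c3 c4 : ℕ} (h : ∀ x ∈ [a, b, c1, c2, c3, c4], Has M x)
    (k : comp (comp a a) a = idc ∧ a ≠ idc ∧ comp a b = comp b a ∧ comp a (comp c1 a) = c1 ∧ comp c2 a = comp b c2 ∧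
      comp c3 a = comp (comp a b) c3 ∧ comp b (comp c4 a) = comp a c4) : E9c M := by
  simp only [List.forall_mem_cons] at h
  obtain ⟨⟨a, rfl⟩, ⟨b, rfl⟩, ⟨c1, rfl⟩, ⟨c2, rfl⟩, ⟨c3, rfl⟩, ⟨c4, rfl⟩⟩ := And.intro (cd_el h.1) <| And.intro
    (cd_el h.2.1) <| And.intro (cd_el h.2.2.1) <| And.intro (cd_el h.2.2.2.1) <| And.intro (cd_el h.2.2.2.2.1)
      (cd_el h.2.2.2.2.2.1)
  simp only [← code_mul, ← code_one, ne_eq, code_injective.eq_iff, ← Subgroup.coe_mul, ← M.coe_one,
    Subtype.coe_inj] at k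
  obtain ⟨k1, k2, k3, k4, k5, k6, k7⟩ := k
  refine ⟨a, b, by rw [pow_three', k1], k2, k3, isConj_iff.2 ⟨c1, ?_⟩, isConj_iff.2 ⟨c2, ?_⟩, isConj_iff.2 ⟨c3, ?_⟩,
    isConj_iff.2 ⟨c4, ?_⟩⟩
  · rw [eq_inv_mul_of_mul_eq k4, mul_inv_cancel_right]
  · rw [k5, mul_inv_cancel_right]
  · rw [k6, mul_inv_cancel_right]
  · rw [eq_inv_mul_of_mul_eq k7, (Commute.inv_right k3).eq]; group

end Code

omit [Fintype F] in
/-- diagonal elements of `SU` -/
theorem exists_diag {n q : ℕ} (d : Fin n → F) (h1 : ∏ i, d i = 1) (h2 : ∀ i, d i ^ (q + 1) = 1) :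
    ∃ g : SU n F q, g.1.1 = diagonal d :=
  ⟨Unitary.mkSU (diagonal d) (by rw [det_diagonal, h1]) fun u v => Finset.sum_congr rfl fun i _ => by
    rw [mulVec_diagonal, mulVec_diagonal, mul_pow]
    linear_combination u i * v i ^ q * h2 i, rfl⟩

end Wit

open Wit

theorem e87_L2 (hF : Fintype.card F = 8 ∨ Fintype.card F = 16) (e : G ≃* PSL(2, F)) : E87 G := by
  obtain ⟨h2, κ, κ0, hκ⟩ := exists_kappa hF
  obtain ⟨l, rfl⟩ : ∃ l : F, l * l = κ := Finite.surjective_of_injective (f := fun l : F => l * l)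
    (fun x y e => by grind) κ
  refine e87_map (f := e.symm.toMonoidHom) e.symm.injective (e87_fld h2 (u := fun x => QuotientGroup.mk (SL2.uu x))
    (fun x y => by rw [SL2.uu_add, QuotientGroup.mk_mul]) (fun x y e => ?_)
    (h := QuotientGroup.mk (SL2.dg (Units.mk0 l (left_ne_zero_of_mul κ0)))) hκ fun x => ?_)
  · have := ((SL2.mem_center_iff_isScal _).1 (QuotientGroup.eq.1 e)).1
    rw [← SL2.uu_neg, ← SL2.uu_add, SL2.uu_01] at this
    linear_combination -this
  · rw [← QuotientGroup.mk_inv, ← QuotientGroup.mk_mul, ← QuotientGroup.mk_mul, ← SL2.dg_inv]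
    congr 1
    have := left_ne_zero_of_mul κ0
    refine SL2.ext2 ?_ ?_ ?_ ?_ <;> simp [SL2.mul_ap, this]
    ring

theorem e87_alt {n : ℕ} (h8 : 8 ≤ n) (_h11 : n ≤ 11) (e : G ≃* alternatingGroup (Fin n)) : E87 G := by
  let ι := Equiv.ofInjective _ (Fin.castLE_injective h8)
  refine e87_map (f := e.symm.toMonoidHom) e.symm.injective (e87_map (H := alternatingGroup (Fin 8))
    (f := ((Equiv.Perm.extendDomainHom ι).comp (alternatingGroup (Fin 8)).subtype).codRestrict _
      fun x => (Equiv.Perm.sign_extendDomain _ ι).trans x.2)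
    (fun a b h => Subtype.ext (Equiv.Perm.extendDomainHom_injective ι (congrArg Subtype.val h))) ?_)
  refine e87_of (t := ⟨c[0, 1] * c[2, 3] * c[4, 5] * c[6, 7], Equiv.Perm.mem_alternatingGroup.2 (by decide)⟩)
    (h := ⟨c[1, 2, 4, 3, 6, 7, 5], Equiv.Perm.mem_alternatingGroup.2 (by decide)⟩) (a := ⟨c[0, 2] * c[1, 3] * c[4, 6] * c[5, 7], Equiv.Perm.mem_alternatingGroup.2 (by decide)⟩)
    (b := ⟨c[0, 4] * c[1, 5] * c[2, 6] * c[3, 7], Equiv.Perm.mem_alternatingGroup.2 (by decide)⟩) ?_ ?_ ?_ ?_ ?_ ?_ ?_ ?_ ?_ ?_ <;> decide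

open Mathieu in
theorem e87_M22 (h : Spor.IsoM22 G) : E87 G := by
  obtain ⟨e⟩ := h
  obtain ⟨t, ht⟩ := cd_el (has_M22 (a := 984330238668445353307680420861740096) (by decide +kernel))
  obtain ⟨h, hh⟩ := cd_el (has_M22 (a := 977946142385489797270112026068388896) (by decide +kernel))
  obtain ⟨a, ha⟩ := cd_el (has_M22 (a := 976543013996775556519395725514151008) (by decide +kernel))
  obtain ⟨b, hb⟩ := cd_el (has_M22 (a := 984331459161572916189794756069799040) (by decide +kernel))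
  refine e87_map (f := e.symm.toMonoidHom) e.symm.injective (e87_of (t := t) (h := h) (a := a) (b := b)
    ?_ ?_ ?_ ?_ ?_ ?_ ?_ ?_ ?_ ?_) <;>
  simp only [ne_eq, Subtype.ext_iff, ← code_injective.eq_iff, Subgroup.coe_mul, Subgroup.coe_one, code_mul, code_one,
    ht, hh, ha, hb] <;> decide +kernel

theorem e87_Sz8 [Finite G] [IsSimpleGroup G] (h : Nat.card G = 29120) : E87 G := by
  obtain ⟨F, _, _, m, hm, hF, ⟨e⟩⟩ := S4Cor.sz_model (Gold.Cor.isoSuzuki_of_three Gold.all (G := G) (fun k => by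
    have := S4Cor.exists_prime_card ‹_› k
    rw [h] at this
    norm_num at this) (by rw [h]; decide))
  rw [Nat.card_congr e.toEquiv, Sz.Tits.card_grp, Nat.card_eq_fintype_card, hF] at h
  obtain rfl : m = 1 := by
    by_contra h1
    have : 2 ^ 5 ≤ 2 ^ (2 * m + 1) := Nat.pow_le_pow_right two_pos (by omega)
    have := Nat.mul_le_mul (Nat.mul_le_mul (Nat.pow_le_pow_left this 2) (Nat.succ_le_succ (Nat.pow_le_pow_left this 2)))
      (Nat.sub_le_sub_right this 1)
    exact absurd (this.trans h.le) (by decide)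
  obtain ⟨h2, κ, κ0, hκ⟩ := exists_kappa (.inl hF)
  obtain ⟨l, rfl⟩ := Finite.surjective_of_injective (f := fun l : F => l ^ 2 * (Sz.tits hF).θ l)
    (fun x y => (Sz.tits hF).sq_mul_θ_inj) κ
  exact e87_map (f := e.symm.toMonoidHom) e.symm.injective (e87_fld h2 (u := (Sz.tits hF).S 0)
    (fun x y => by simp [Sz.Tits.S_mul_S]) (fun x y e => (Sz.Tits.S_inj _ e).2)
    (h := (Sz.tits hF).M (Units.mk0 l fun e => κ0 (by simp [e]))) hκ fun x => by simp [Sz.Tits.M_conj_S])

open _root_.CfsgLib.Unitary in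
theorem c10_U3 (hF : Fintype.card F = 16) (e : G ≃* PSU 3 F 4) : C10 G := by
  have : Fact (Fintype.card F = 4 ^ 2) := ⟨hF⟩
  have h2 : (2 : F) = 0 := two_eq_zero_of_card (n := 4) hF
  obtain ⟨a, a1, a5⟩ := exists_norm_one_ne_one this.out
  obtain ⟨x, hx⟩ := exists_diag (q := 4) ![a, a, a ^ 3] (by simp [Fin.prod_univ_three]; grind) fun i => by
    fin_cases i <;> simp <;> grind
  let φ := e.symm.toMonoidHom.comp (utPSU (q := 4) h2)
  have inj : Function.Injective φ := e.symm.injective.comp (utPSU_injective h2)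
  have cj : ∀ u : UT F 4, ∃ v : UT F 4, v.X = a ^ 3 * u.X ∧ v.Y = u.Y + (u.X + u.X ^ 4) + (v.X + v.X ^ 4) ∧
      e.symm (QuotientGroup.mk x) * φ u = φ v * e.symm (QuotientGroup.mk x) := fun u => by
    refine ⟨⟨a ^ 3 * u.X, u.Y + (u.X + u.X ^ 4) + (a ^ 3 * u.X + (a ^ 3 * u.X) ^ 4), ?_⟩, rfl, rfl, ?_⟩
    · simp only [add_pow_q this.out, pow_q_pow_q this.out]
      linear_combination u.tr + (u.X + u.X ^ 4 + a ^ 3 * u.X + (a ^ 3 * u.X) ^ 4) * h2 -
        u.X ^ 5 * (a ^ 10 + a ^ 5 + 1) * a5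
    · refine (map_mul e.symm _ _).symm.trans (.trans (congrArg e.symm ?_) (map_mul e.symm _ _))
      refine congrArg (QuotientGroup.mk (s := Subgroup.center _)) (a₁ := x * utSU h2 _) (a₂ := utSU h2 _ * x)
        (Subtype.ext (Subtype.ext ?_))
      change x.1.1 * uMat3 4 _ _ = uMat3 4 _ _ * x.1.1
      rw [hx]
      ext i j
      fin_cases i <;> fin_cases j <;> simp [uMat3] <;> grind
  let z : UT F 4 := ⟨0, 1, by grind⟩
  obtain ⟨u, hu⟩ := UT.exists_X (q := 4) (1 : F)
  refine ⟨φ z, e.symm (QuotientGroup.mk x), φ.range, ?_, (map_ne_one_iff φ inj).2 fun k => one_ne_zero (congrArg UT.Y k),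
    ?_, ?_, (IsPGroup.of_card (n := 6) UT.card_eq).of_surjective _ φ.rangeRestrict_surjective, ?_, ?_,
    φ u, ⟨u, rfl⟩, fun k => ?_⟩
  · rw [← map_pow, sq, show z * z = 1 from UT.ext (by simp [z]) (by simp [z]; grind), map_one]
  · rw [← map_pow, ← QuotientGroup.mk_pow, show x ^ 5 = 1 from Subtype.ext (Subtype.ext ?_), QuotientGroup.mk_one, map_one]
    change x.1.1 ^ 5 = 1
    rw [hx, diagonal_pow, ← diagonal_one]
    congr 1
    ext i
    fin_cases i <;> simp <;> grind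
  · obtain ⟨v, h1, h2, h3⟩ := cj z
    rwa [show v = z from UT.ext (by simpa [z] using h1) (by simpa [z, h1] using h2)] at h3
  · rintro _ ⟨v, rfl⟩
    rw [← map_mul, ← map_mul, show v * z = z * v from UT.ext (by simp [z]) (by simp [z, add_comm])]
  · rintro _ ⟨v, rfl⟩
    obtain ⟨w, -, -, h3⟩ := cj v
    exact ⟨w, by rw [h3, mul_inv_cancel_right]⟩
  · obtain ⟨v, h1, -, h3⟩ := cj u
    rw [← inj (mul_right_cancel (k.symm.trans h3)), hu] at h1
    grind

open Mathieu in
theorem m11_facts [Finite G] [IsSimpleGroup G] (h : Nat.card G = 7920) : E9c G ∧ Aut5 G 11 := by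
  obtain ⟨e⟩ := MathRec.uniq_M11 h
  obtain ⟨x, hx⟩ := cd_el (has_M11 (a := 217659858509939740509415197420686400) (by decide +kernel))
  obtain ⟨y, hy⟩ := cd_el (has_M11 (a := 735586561504953295002855977750269984) (by decide +kernel))
  refine ⟨e9c_map (f := e.symm.toMonoidHom) e.symm.injective (e9c_code (a := 487607080158395075740321133224921120)
    (b := 984769902586367543974814854303385632) (c1 := 970499966350631336865513127433832480)
    (c2 := 719923664328491199848526586197411872) (c3 := 609271311764373893382231684089481248)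
    (c4 := 227578386318009578406903204956702752)
    (fun a ha => has_M11 ((Golay.allL_iff _ _).1 (by decide +kernel) a ha)) (by decide +kernel)),
    aut5_map (f := e.symm.toMonoidHom) e.symm.injective ⟨x, y, ?_, (mul_inv_eq_iff_eq_mul (c := x ^ 3)).2 ?_ ▸
      pow_mem (Subgroup.mem_zpowers x) 3, ?_, ?_⟩⟩ <;>
  simp only [commute_iff_eq, Subtype.ext_iff, ← code_injective.eq_iff, Subgroup.coe_mul, Subgroup.coe_one,
    Subgroup.coe_pow, code_mul, code_pow, code_one, hx, hy] <;> decide +kernel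

open Mathieu in
theorem e9c_L3 (hF : Fintype.card F = 4) (e : G ≃* PSL(3, F)) : E9c G := by
  replace e := e.trans (psl3_equiv_M21 F hF).some
  exact e9c_map (f := e.symm.toMonoidHom) e.symm.injective (e9c_code (a := 976531636853126291160407323722221600)
    (b := 974428684320632006772068527414316064) (c1 := 977839867786251717525204161457686560)
    (c2 := 981442160650601554259784992153706528) (c3 := 970398603952780882525231244152020000)
    (c4 := 981774360376483848975691882925889568)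
    (fun a ha => has_M21 ((Golay.allL_iff _ _).1 (by decide +kernel) a ha)) (by decide +kernel))

/-- abelian Sylow `2`-subgroups of order 16 -/
theorem e87_of_sixteen [Finite G] [IsSimpleGroup G] (hG : ¬ IsMulCommutative G) (S : Sylow 2 G)
    (hS : IsMulCommutative (S : Subgroup G)) (h : Nat.card (S : Subgroup G) = 16) : E87 G := by
  have h1 := (S : Subgroup G).card_mul_index
  have h2 := S.not_dvd_index
  rw [h] at h1
  rcases Cfsg.Agent.S0506.result hG S hS with ⟨a, ha, F, _, _, hF, ⟨e⟩⟩ | ⟨F, _, _, hF, ⟨e⟩⟩ | ⟨-, m, -, k⟩ | ⟨-, k⟩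
  · have k := Classical.psl2_card_mul (F := F)
    have o : ∀ n, Odd ((2 ^ a) ^ (n + 1) - 1) := fun n => Nat.Even.sub_odd (Nat.one_le_pow _ _ (by positivity))
      (Nat.even_pow.2 ⟨Nat.even_pow.2 ⟨even_two, by omega⟩, by omega⟩) odd_one
    rw [← Nat.card_congr e.toEquiv, hF, Nat.coprime_two_left.2 (by simpa using o 0), one_mul, ← h1] at k
    have := congrArg (·.factorization 2) k
    rw [show 16 = 2 ^ 4 from rfl, Mathieu.factorization_two_pow_mul h2,
      Mathieu.factorization_two_pow_mul (o 1).not_two_dvd_nat] at this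
    exact e87_L2 (.inr (by rw [hF, ← this]; rfl)) e
  · have k := Classical.psl2_card_mul (F := F)
    rw [← Nat.card_congr e.toEquiv, ← h1] at k
    obtain ⟨r, hr⟩ : ∃ r, Fintype.card F = 16 * r + 3 ∨ Fintype.card F = 16 * r + 5 ∨ Fintype.card F = 16 * r + 11 ∨
      Fintype.card F = 16 * r + 13 := ⟨Fintype.card F / 16, by omega⟩
    have k' : (16 : ℤ) ∣ Fintype.card F * (Fintype.card F ^ 2 - 1) := by
      zify [Nat.one_le_pow 2 _ (Fintype.card_pos (α := F))] at k
      exact k ▸ Dvd.dvd.mul_left (dvd_mul_right _ _) _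
    replace k' := (ZMod.intCast_zmod_eq_zero_iff_dvd _ 16).2 k'
    rcases hr with hr | hr | hr | hr <;> simp only [hr] at k' <;> push_cast at k' <;>
      rw [show (16 : ZMod 16) = 0 from rfl, zero_mul, zero_add] at k' <;> exact absurd k' (by decide)
  · have k' := congrArg (Nat.cast : ℕ → ZMod 16) (h1.trans k)
    push_cast [Nat.one_le_pow] at k'
    rw [show (16 : ZMod 16) = 0 from rfl, zero_mul, pow_succ _ (2 * m), pow_mul] at k'
    obtain ⟨i, rfl | rfl⟩ := m.even_or_odd'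
    · rw [pow_mul, show ((3 : ZMod 16) ^ 2) ^ 2 = 1 from rfl, one_pow] at k'
      exact absurd k' (by decide)
    · rw [pow_succ _ (2 * i), pow_mul, show ((3 : ZMod 16) ^ 2) ^ 2 = 1 from rfl, one_pow] at k'
      exact absurd k' (by decide)
  · omega

end CfsgLib.D4
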