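import Cfsg.Agent.Lib.D4.TrL2
import Cfsg.Agent.Lib.D4.L34

/-! Traces: `L₃(4)`.  See `plans/D4.md`. -/

set_option autoImplicit false

namespace CfsgLib.D4

open Matrix Cfsg Cfsg.Geo CfsgLib.Asch
open scoped MatrixGroups commutatorElement

variable {G K : Type*} [Group G] [Finite G] [Field K] [IsAlgClosed K] {π : G →* PG4 K}
  {P : Type*} [Group P] [Finite P] {q : P →* G} {ρ : P →* GL I4 K}

omit [IsAlgClosed K] in
theorem L34.sq_cases {A : M2 K} {s : K} (h : A * A = s • 1) :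
    (A.trace = 0 ∧ A.det = -s) ∨ ∃ a, A = a • 1 ∧ a ^ 2 = s := by
  have h1 := congrFun (congrFun h 0) 0
  have h2 := congrFun (congrFun h 0) 1
  have h3 := congrFun (congrFun h 1) 0
  have h4 := congrFun (congrFun h 1) 1
  simp [mul_apply, Fin.sum_univ_two] at h1 h2 h3 h4
  rw [trace_fin_two, det_fin_two]
  by_cases e : A 0 0 + A 1 1 = 0
  · exact .inl ⟨e, by grind⟩
  · refine .inr ⟨A 0 0, ?_, by grind⟩
    ext i j
    fin_cases i <;> fin_cases j <;> simp <;> grind

theorem tr_l34 [CharP K 3] (hx : Cx π) (hl : Lin π q ρ) (hr : NR π) {E : Type*} [Field E]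
    [Fintype E] (hE : Fintype.card E = 4) (e : G ≃* PSL(3, E)) : FrobTr ρ 3 := by
  have hF := L34.facts hE e
  have h3 : (3 : K) = 0 := CharP.cast_eq_zero K 3
  have h2 : (2 : K) ≠ 0 := fun h => one_ne_zero (by linear_combination h3 - h : (1 : K) = 0)
  have : Fact (Nat.Prime 3) := ⟨Nat.prime_three⟩
  have fr : ∀ y : P, tr ρ (y ^ 3) = tr ρ y ^ 3 := fun y => by simpa using tr_pow_char_pow 3 ρ y 1
  intro x
  have adj : ∀ y, q y = q x → tr ρ y⁻¹ = tr ρ y ^ 3 → tr ρ x⁻¹ = tr ρ x ^ 3 := fun y e h => by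
    obtain ⟨z, hz, rfl⟩ := hl.exists_ker e.symm
    obtain ⟨c, hc, e⟩ := (hl.ker hx).1 hz
    have : z⁻¹ = z ^ 3 := inv_eq_of_mul_eq_one_right (by rw [← pow_succ', hl.pow_four hx hz])
    simp only [tr, _root_.mul_inv_rev, this, map_mul, map_pow, Units.val_mul,
      Units.val_pow_eq_pow_val, e, smul_pow, one_pow, mul_smul_comm, smul_mul_assoc, mul_one,
      one_mul, trace_smul, smul_eq_mul, mul_pow] at h ⊢
    rw [h]
  have lift : ∀ {n : ℕ} {y w : P}, Odd n → y ^ n = 1 → w ^ n = 1 → IsConj (q y) (q w) →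
      IsConj y w := fun hn h1 h2 h => by
    obtain ⟨k, hk⟩ := isConj_iff.1 h
    obtain ⟨k, rfl⟩ := hl.surj k
    exact isConj_iff.2 ⟨k, hl.eq_of_odd hx hn (by rw [conj_pow, h1]; simp) h2 (by simpa using hk)⟩
  have c3 : q x ^ 3 = 1 → tr ρ x⁻¹ = tr ρ x ^ 3 := fun h => by
    obtain ⟨y, e, h⟩ := hl.lift_odd hx (by decide) h
    refine adj y e (pow_char_inj 3 (k := 1) ?_)
    rw [pow_one, ← fr, ← fr, ← fr, inv_pow, h]
    simp
  by_cases h1 : q x = 1
  · exact c3 (by simp [h1])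
  rcases hF.pw (q x) with h | h | h | h
  · exact c3 h
  · by_cases h' : q x ^ 2 = 1
    · rw [tr, tr, trace_eq_zero hx.inj h2 h' h1 (hr _) (hl.rep x), trace_eq_zero hx.inj h2
        (by rw [map_inv, inv_pow, h', inv_one]) (by simpa using h1) (hr _) (hl.rep x⁻¹)]
      simp
    have z2 : (q x ^ 2) ^ 2 = 1 := by rw [← pow_mul]; exact h
    obtain ⟨B, hz⟩ := inv_nf hx.inj h2 z2 h' (hr _)
    have hX := (hl.rep x).cb B
    have t1 : tr ρ x = (cj B⁻¹ (ρ x : M4 K)).trace := (trace_cj _ _).symm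
    have t2 : tr ρ x⁻¹ = (cj B⁻¹ (ρ x⁻¹ : M4 K)).trace := (trace_cj _ _).symm
    have hd : (cj B⁻¹ (ρ x : M4 K)).det = 1 := by rw [Wt.det_cj, hl.det]
    have hi : cj B⁻¹ (ρ x⁻¹ : M4 K) * cj B⁻¹ (ρ x : M4 K) = 1 := by
      rw [← map_mul, ← Units.val_mul, ← map_mul]; simp
    generalize cj B⁻¹ (ρ x : M4 K) = X at *
    generalize cj B⁻¹ (ρ x⁻¹ : M4 K) = Y at *
    obtain ⟨s, hs, es⟩ := hz.unique (pow_two (q x) ▸ hX.mul hX)
    have hc : X * zz = zz * X := smul_right_injective _ hs (by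
      beta_reduce
      rw [← mul_smul_comm, ← smul_mul_assoc, ← es, mul_assoc])
    obtain ⟨A, C, rfl⟩ : ∃ A C, X = bd A C := ⟨_, _, comm_zz h2 hc⟩
    have hY : s • Y = bd A C * zz := by
      have : (zz : M4 K) * zz = 1 := by simp [fromBlocks_multiply]
      rw [← mul_one Y, ← this, ← mul_smul_comm, ← smul_mul_assoc, ← es, ← mul_assoc, ← mul_assoc, hi,
        one_mul]
    have t3 := congrArg trace hY
    rw [bd_mul, bd_eq_smul, smul_neg, ← neg_smul] at es
    rw [det_bd] at hd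
    simp only [bd_mul, mul_one, mul_neg, trace_smul, smul_eq_mul] at t3
    rw [t1, t2]
    have tb : ∀ A C : M2 K, (bd A C).trace = A.trace + C.trace := fun A C => by
      simp [trace, Fintype.sum_sum_type]
    rw [tb, trace_neg] at t3
    rw [tb]
    rcases L34.sq_cases es.1 with ⟨a1, a2⟩ | ⟨a, rfl, a2⟩ <;>
      rcases L34.sq_cases es.2 with ⟨c1, c2⟩ | ⟨c, rfl, c2⟩
    · grind
    · simp only [trace_smul, det_smul, trace_one, det_one, Fintype.card_fin, smul_eq_mul] at t3 hd ⊢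
      grind
    · simp only [trace_smul, det_smul, trace_one, det_one, Fintype.card_fin, smul_eq_mul] at t3 hd ⊢
      grind
    · exfalso
      have c0 : c ≠ 0 := by rintro rfl; exact hs (by grind)
      have hZ : q x ∈ Zc (cb π B) (q x ^ 2) := (mem_Zc_iff h2 hz).2 ⟨c⁻¹ * a, (hX.smul (inv_ne_zero c0)).congr
        (bd_eq_smul.2 ⟨by rw [smul_smul], by rw [smul_smul, inv_mul_cancel₀ c0, one_smul]⟩).symm⟩
      obtain ⟨u, v, k1, k2, k3, k4, k5⟩ := hF.four _ h h'
      have k : ∀ w, Com (cb π B) w (q x ^ 2) → Commute w (q x) := fun w hw =>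
        (hw.zc hZ).comm (hx.cb B).inj
      exact k5 (k _ (((com_or_anti z2 k1).resolve_left fun h => k3 (k _ h)).mul_anti
        ((com_or_anti z2 k2).resolve_left fun h => k4 (k _ h))))
  · obtain ⟨k1, E, k2, k3, k4⟩ := hF.five _ h h1
    obtain ⟨y, e, hy⟩ := hl.lift_odd hx (by decide) h
    have t1 := tr_isConj (ρ := ρ) (lift (by decide) hy (by rw [inv_pow, hy, inv_one])
      (by rw [map_inv, e]; exact k1))
    have t2 := pauli hx h2 hr E k2 k3 k4 (fun t ht c => ?_) (e ▸ hl.rep y)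
    · refine adj y e ?_
      rw [← coe_units_inv, ← map_inv] at t2
      simp only [tr] at t1 ⊢
      grind
    · have c' : Commute (q x) t := c
      have k := k3 t ht
      have n : ∀ n, (q x * t) ^ n = 1 → q x ^ Nat.gcd 5 (n * 2) = 1 := fun n hn =>
        pow_gcd_eq_one.2 ⟨h, by
          have : (q x * t) ^ (n * 2) = 1 := by rw [pow_mul, hn, one_pow]
          rwa [c'.mul_pow, mul_comm n, pow_mul t, k, one_pow, mul_one, mul_comm 2] at this⟩
      rcases hF.pw (q x * t) with h' | h' | h' | h'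
      · exact absurd (by simpa using n _ h') h1
      · exact absurd (by simpa using n _ h') h1
      · rwa [c'.mul_pow, h, one_mul, show 5 = 2 * 2 + 1 from rfl, pow_succ, pow_mul, k, one_pow,
          one_mul] at h'
      · exact absurd (by simpa using n _ h') h1
  · obtain ⟨y, e, hy⟩ := hl.lift_odd hx (by decide) h
    have := (lift (w := y ^ 2) (by decide) hy (by rw [← pow_mul, mul_comm, pow_mul, hy, one_pow])
      (by rw [map_pow, e]; exact hF.seven _ h h1)).pow 3
    refine adj y e ?_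
    rw [← fr, ← tr_isConj ρ this, ← pow_mul,
      inv_eq_of_mul_eq_one_right (show y * y ^ (2 * 3) = 1 by rw [← pow_succ', hy])]

end CfsgLib.D4
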